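import Groth.Agent.DualFMLib.Nat
import Groth.Agent.BCArbLib.Deg
import Groth.Agent.RHomOLib.Adjoint
import Groth.Agent.KiehlLib.SuppPC
import Groth.Agent.KiehlLib.Base
import Groth.Agent.KFlatLib.LpullTensor
import Groth.Agent.Dual3Lib.KernelAdj

/-!
# The product of two closed subschemes, pulled back along the diagonal
-/

set_option autoImplicit false
set_option linter.style.haveILetI false
set_option linter.unusedSectionVars false
set_option backward.isDefEq.respectTransparency false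
set_option backward.isDefEq.respectTransparency.types false
set_option maxHeartbeats 1000000
set_option synthInstance.maxHeartbeats 200000

universe u

open CategoryTheory CategoryTheory.Limits AlgebraicGeometry
open Groth.Agent Groth.Agent.DerLib Groth.Agent.PerfDualLib

attribute [local instance] HasDerivedCategory.standard

noncomputable section

namespace Groth.Agent.RegImmKunLib

/-- The structure sheaf, as a quasi-coherent object. -/
theorem isQCohD_unit (Z : Scheme.{u}) : DCoh.IsQCohD (DerivedCategory.Q.obj (unitCx Z)) :=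
  KFlatLib.isQCohD_iso ((DerivedCategory.singleFunctorIsoCompQ Z.Modules 0).app (Coh.structureModule Z))
    (Dual3Lib.unitQ Z).property

/-- The direct image of the structure sheaf along a closed immersion. -/
theorem nonempty_push_unit {Z X : Scheme.{u}} (i : Z ⟶ X) [IsClosedImmersion i] [DCoh.HasRpush i] :
    Nonempty ((DCoh.Rpush i).obj (DerivedCategory.Q.obj (unitCx Z)) ≅
      DCoh.inD X ((Scheme.Modules.pushforward i).obj (Coh.structureModule Z))) := by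
  obtain ⟨r⟩ := RHomOLib.nonempty_rpush_iso i
  exact ⟨r.app _ ≪≫ (Dual3.pushD i).mapIso
      ((DerivedCategory.singleFunctorIsoCompQ Z.Modules 0).app (Coh.structureModule Z)).symm ≪≫
    ((Scheme.Modules.pushforward i).mapDerivedCategorySingleFunctor 0).app (Coh.structureModule Z)⟩

/-- Flat base change of the structure sheaf of a closed subscheme. -/
theorem nonempty_bc_unit {Z X Z' X' : Scheme.{u}} {i : Z ⟶ X} {g : X' ⟶ X} {i' : Z' ⟶ X'} {g' : Z' ⟶ Z}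
    [IsClosedImmersion i] [Flat g] (H : IsPullback g' i' i g) [DCoh.HasRpush i] [DCoh.HasRpush i']
    [DCoh.HasLpull g] :
    Nonempty ((DCoh.Lpull g).obj ((DCoh.Rpush i).obj (DerivedCategory.Q.obj (unitCx Z))) ≅
      (DCoh.Rpush i').obj (DerivedCategory.Q.obj (unitCx Z'))) := by
  haveI := KFlatLib.hasLpull g'
  obtain ⟨bc⟩ := DualFMLib.nonempty_bcNat H (Or.inr inferInstance)
  exact ⟨bc.app ⟨_, isQCohD_unit Z⟩ ≪≫ (DCoh.Rpush i').mapIso (KiehlLib.lpullUnitIso g')⟩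

variable {B X Y₁ Y₂ : Scheme.{u}} (f : X ⟶ B) [Flat f] (i₁ : Y₁ ⟶ X) (i₂ : Y₂ ⟶ X)
  [IsClosedImmersion i₁] [IsClosedImmersion i₂] [Flat (i₁ ≫ f)]

/-- Künneth for two closed subschemes, along the diagonal. -/
theorem nonempty_lTensor_iso_lpull_diagonal
    [DCoh.HasLTensorMod ((Scheme.Modules.pushforward i₂).obj (Coh.structureModule Y₂))]
    [DCoh.HasLpull (pullback.diagonal f)] :
    Nonempty ((DCoh.LTensorMod ((Scheme.Modules.pushforward i₂).obj (Coh.structureModule Y₂))).obj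
        (DCoh.inD X ((Scheme.Modules.pushforward i₁).obj (Coh.structureModule Y₁))) ≅
      (DCoh.Lpull (pullback.diagonal f)).obj (DCoh.inD (pullback f f)
        ((Scheme.Modules.pushforward (pullback.map (i₁ ≫ f) (i₂ ≫ f) f f i₁ i₂ (𝟙 B) (Category.comp_id _)
          (Category.comp_id _))).obj (Coh.structureModule (pullback (i₁ ≫ f) (i₂ ≫ f)))))) := by
  let p₁ := pullback.fst f f
  let p₂ := pullback.snd f f
  let Δ := pullback.diagonal f
  let j := pullback.map (i₁ ≫ f) (i₂ ≫ f) f f i₁ i₂ (𝟙 B) (Category.comp_id _) (Category.comp_id _)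
  let k : pullback (i₁ ≫ f) f ⟶ pullback f f :=
    pullback.map (i₁ ≫ f) f f f i₁ (𝟙 X) (𝟙 B) (Category.comp_id _) (by simp)
  let a₁ := pullback.fst (i₁ ≫ f) f
  let a₂ := pullback.snd (i₁ ≫ f) f
  let m : pullback (i₁ ≫ f) (i₂ ≫ f) ⟶ pullback (i₁ ≫ f) f :=
    pullback.map (i₁ ≫ f) (i₂ ≫ f) (i₁ ≫ f) f (𝟙 Y₁) i₂ (𝟙 B) (by simp) (Category.comp_id _)
  have H₁ : IsPullback a₁ k i₁ p₁ := by
    refine IsPullback.of_bot ?_ (by simp [k, a₁, p₁]) (IsPullback.of_hasPullback f f)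
    rw [show k ≫ pullback.snd f f = pullback.snd (i₁ ≫ f) f by simp [k]]
    exact IsPullback.of_hasPullback (i₁ ≫ f) f
  have H₂ : IsPullback (pullback.snd (i₁ ≫ f) (i₂ ≫ f)) m i₂ a₂ := by
    refine IsPullback.of_bot ?_ (by simp [m, a₂]) (IsPullback.of_hasPullback (i₁ ≫ f) f).flip
    rw [show m ≫ pullback.fst (i₁ ≫ f) f = pullback.fst (i₁ ≫ f) (i₂ ≫ f) by simp [m]]
    exact (IsPullback.of_hasPullback (i₁ ≫ f) (i₂ ≫ f)).flip
  haveI : IsClosedImmersion k := MorphismProperty.of_isPullback (P := @IsClosedImmersion) H₁.flip.flip inferInstance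
  haveI : IsClosedImmersion m := MorphismProperty.of_isPullback (P := @IsClosedImmersion) H₂ inferInstance
  haveI : Flat p₁ := MorphismProperty.pullback_fst (P := @Flat) f f inferInstance
  haveI : Flat a₂ := MorphismProperty.pullback_snd (P := @Flat) (i₁ ≫ f) f inferInstance
  have hmk : m ≫ k = j := by
    refine pullback.hom_ext ?_ ?_ <;> simp [m, k, j]
  haveI : IsClosedImmersion j := by rw [← hmk]; infer_instance
  haveI := DCohRestrLib.hasRpush i₁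
  haveI := DCohRestrLib.hasRpush i₂
  haveI := DCohRestrLib.hasRpush k
  haveI := DCohRestrLib.hasRpush m
  haveI := DCohRestrLib.hasRpush j
  haveI := DCohRestrLib.hasRpush (m ≫ k)
  haveI := KFlatLib.hasLpull p₁
  haveI := KFlatLib.hasLpull p₂
  haveI := KFlatLib.hasLpull k
  haveI := KFlatLib.hasLpull a₂
  haveI := KFlatLib.hasLpull (m ≫ k)
  haveI := KFlatLib.hasLpull (k ≫ p₂)
  haveI := KFlatLib.hasLpull (Δ ≫ p₁)
  haveI := KFlatLib.hasLpull (Δ ≫ p₂)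
  haveI := KFlatLib.hasLpull (𝟙 X)
  haveI := KFlatLib.hasLTensorCx (unitCx (pullback (i₁ ≫ f) f))
  let U₁ := (DCoh.Rpush i₁).obj (DerivedCategory.Q.obj (unitCx Y₁))
  let U₂ := (DCoh.Rpush i₂).obj (DerivedCategory.Q.obj (unitCx Y₂))
  obtain ⟨n₁⟩ := nonempty_push_unit i₁
  obtain ⟨n₂⟩ := nonempty_push_unit i₂
  obtain ⟨nj⟩ := nonempty_push_unit j
  obtain ⟨b₁⟩ := nonempty_bc_unit H₁
  obtain ⟨b₂⟩ := nonempty_bc_unit H₂
  obtain ⟨N, hN, ⟨eN⟩⟩ := exists_kFlat_model ((DCoh.Lpull p₁).obj U₁)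
  haveI := KFlatLib.hasLTensorCx N
  obtain ⟨pj⟩ := DualFMLib.nonempty_projNat₂ k (unitCx (pullback (i₁ ≫ f) f)) (isQCohD_unit _) N (eN ≪≫ b₁)
  obtain ⟨un⟩ := BCArbLib.nonempty_lTensor_unit_id (pullback (i₁ ≫ f) f)
  have hM : DCoh.IsQCohD ((DCoh.Lpull p₂).obj U₂) :=
    KFlatLib.isQCohD_lpull p₂ _ (QRlimLib.isQCohD_rpush i₂ (isQCohD_unit Y₂))
  obtain ⟨c₁⟩ := KFlatLib.lpull_comp k p₂
  obtain ⟨d₁⟩ := Dual3Lib.nonempty_lpull_congr (show k ≫ p₂ = a₂ by simp [k, p₂, a₂]) U₂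
  obtain ⟨c₂⟩ := Dual3Lib.nonempty_rpush_comp m k (DerivedCategory.Q.obj (unitCx (pullback (i₁ ≫ f) (i₂ ≫ f))))
  obtain ⟨d₂⟩ := Dual3Lib.nonempty_rpush_congr_nat hmk
  let eJ : (DCoh.LTensorCx N).obj ((DCoh.Lpull p₂).obj U₂) ≅
      DCoh.inD (pullback f f) ((Scheme.Modules.pushforward j).obj (Coh.structureModule _)) :=
    pj.app ⟨_, hM⟩ ≪≫ (DCoh.Rpush k).mapIso (un.app _ ≪≫ c₁.app U₂ ≪≫ d₁ ≪≫ b₂) ≪≫ c₂ ≪≫ d₂.app _ ≪≫ nj
  let NΔ := (KFlatLib.pullCx Δ).obj N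
  haveI := KFlatLib.hasLTensorCx NΔ
  obtain ⟨t⟩ := KFlatLib.lpull_lTensorCx Δ N hN ((DCoh.Lpull p₂).obj U₂)
  obtain ⟨e₁⟩ := KFlatLib.lpull_comp Δ p₁
  obtain ⟨e₂⟩ := KFlatLib.lpull_comp Δ p₂
  obtain ⟨g₁⟩ := Dual3Lib.nonempty_lpull_congr_nat (pullback.diagonal_fst f)
  obtain ⟨g₂⟩ := Dual3Lib.nonempty_lpull_congr_nat (pullback.diagonal_snd f)
  obtain ⟨i⟩ := Dual3Lib.nonempty_lpull_id (𝟙 X) rfl
  obtain ⟨P, hP, ⟨eP⟩⟩ := exists_kFlat_model
    (DCoh.inD X ((Scheme.Modules.pushforward i₁).obj (Coh.structureModule Y₁)))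
  haveI := KFlatLib.hasLTensorCx P
  obtain ⟨cP⟩ := ProjFormLib.nonempty_lTensor_congr_iso (M := NΔ) (N := P)
    ((KFlatLib.lpullObjIso Δ N hN).symm ≪≫ (DCoh.Lpull Δ).mapIso eN ≪≫ e₁.app U₁ ≪≫ g₁.app U₁ ≪≫ i.app U₁ ≪≫
      n₁ ≪≫ eP.symm)
  obtain ⟨s⟩ := KiehlLib.nonempty_lTensorCx_inD P hP
    ((Scheme.Modules.pushforward i₂).obj (Coh.structureModule Y₂))
  exact ⟨((DCoh.LTensorMod _).mapIso eP.symm ≪≫ s.symm) ≪≫
    (DCoh.LTensorCx P).mapIso (n₂.symm ≪≫ (i.app U₂).symm ≪≫ (g₂.app U₂).symm ≪≫ (e₂.app U₂).symm) ≪≫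
    (cP.app _).symm ≪≫ t.symm ≪≫ (DCoh.Lpull Δ).mapIso eJ⟩

end Groth.Agent.RegImmKunLib
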